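import Mathlib
import Cfsg.Agent.Lib.Helper48.FrakL.Core2
import Cfsg.Agent.Lib.Helper45.FrakL.SzFacts

set_option autoImplicit false

/-!
S2863, Suzuki case: `X / A ≅ Sz(q)` and the image of `Y` has order `q`.
-/

namespace Cfsg.Agent.Lib.Helper11.FrakL

open Subgroup
open Cfsg.Agent.Lib.Helper48.FrakL

universe u

theorem eq_one_of_odd_of_dvd_four {n : ℕ} (h1 : Odd n) (h2 : n ∣ 4) : n = 1 := by
  have hle : n ≤ 4 := Nat.le_of_dvd (by norm_num) h2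
  interval_cases n
  · exact absurd h1 (by decide)
  · rfl
  · exact absurd h1 (by decide)
  · exact absurd h2 (by decide)
  · exact absurd h1 (by decide)

/-- In a dihedral configuration `⟨e, f⟩` with `e f` of odd order `2k+1`, the element `(e f)^k`
conjugates `e` to `f`. -/
theorem dih_conj {S : Type*} [Group S] {e f : S} (he : e * e = 1) (hf : f * f = 1) {k : ℕ}
    (hk : (e * f) ^ (2 * k + 1) = 1) : (e * f) ^ k * e * ((e * f) ^ k)⁻¹ = f := by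
  have hei : e⁻¹ = e := inv_eq_of_mul_eq_one_right he
  have hfi : f⁻¹ = f := inv_eq_of_mul_eq_one_right hf
  have hinv : e * (e * f) * e⁻¹ = (e * f)⁻¹ := by
    rw [mul_inv_rev, hei, hfi, ← mul_assoc, he, one_mul]
  have hpow : e * (e * f) ^ k * e⁻¹ = ((e * f)⁻¹) ^ k := by
    rw [← hinv, conj_pow]
  have h1 : (e * f) ^ k * e * ((e * f) ^ k)⁻¹
      = (e * f) ^ k * (e * (e * f) ^ k * e⁻¹)⁻¹ * e := by group
  have h2 : (e * f) ^ (2 * k) = (e * f)⁻¹ := by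
    rw [pow_succ] at hk
    exact eq_inv_of_mul_eq_one_left hk
  rw [h1, hpow, inv_pow, inv_inv, ← pow_add, ← two_mul, h2, mul_inv_rev, hei, hfi, mul_assoc, he,
    mul_one]

section Abs

variable {X : Type*} [Group X] [Finite X] {Y A : Subgroup X} [hAn : A.Normal]
  {S : Type*} [Group S] {σ : X →* S} {E : Subgroup S}

/-- The hypotheses on the quotient map `σ : X → S` (kernel `A`) and the image `E` of `Y`. -/
structure SzSetup (Y A : Subgroup X) (σ : X →* S) (E : Subgroup S) : Prop where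
  surj : Function.Surjective σ
  ker : ∀ x : X, σ x = 1 ↔ x ∈ A
  img : ∀ e : S, e ∈ E ↔ ∃ y ∈ Y, σ y = e
  ti : ∀ g : S, (∃ e ∈ E, e ≠ 1 ∧ g * e * g⁻¹ ∈ E) → ∀ e ∈ E, g * e * g⁻¹ ∈ E
  odd : ∀ g : S, (¬ ∀ e ∈ E, g * e * g⁻¹ ∈ E) →
    ∀ y ∈ E, y ≠ 1 → ∀ s ∈ E, s ≠ 1 → Odd (orderOf (y * (g * s * g⁻¹)))
  real : ∀ h : S, h ≠ 1 → Odd (orderOf h) →
    ∃ t ∈ E, t ≠ 1 ∧ ∃ g : S,
      (g * t * g⁻¹) * h * (g * t * g⁻¹)⁻¹ ∈ Subgroup.zpowers h ∧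
      (g * t * g⁻¹) * h ≠ h * (g * t * g⁻¹)

omit [Finite X] hAn in
theorem SzSetup.sq_one (hs : SzSetup Y A σ E) (d : Data 2 Y A) {e : S} (he : e ∈ E) :
    e * e = 1 := by
  obtain ⟨y, hy, rfl⟩ := (hs.img e).mp he
  rw [← map_mul, ← pow_two, d.exp y hy, map_one]

omit [Finite X] hAn in
theorem SzSetup.mem_sup (hs : SzSetup Y A σ E) {x : X} (hx : σ x ∈ E) : x ∈ Y ⊔ A := by
  obtain ⟨y, hy, hyx⟩ := (hs.img _).mp hx
  have hA : y⁻¹ * x ∈ A := by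
    rw [← hs.ker, map_mul, map_inv, hyx, inv_mul_cancel]
  have : x = y * (y⁻¹ * x) := by group
  rw [this]
  exact Subgroup.mul_mem_sup hy hA

theorem SzSetup.mem_normalizer (hs : SzSetup Y A σ E) (d : Data 2 Y A) {g : X}
    (h : ∀ e ∈ E, σ g * e * (σ g)⁻¹ ∈ E) : g ∈ normalizer (Y : Set X) := by
  apply d.mem_B_of_conj_mem
  intro y hy
  apply hs.mem_sup
  rw [map_mul, map_mul, map_inv]
  exact h _ ((hs.img _).mpr ⟨y, hy, rfl⟩)

omit [Finite X] hAn in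
theorem SzSetup.normalizes (hs : SzSetup Y A σ E) {g : X} (hg : g ∈ normalizer (Y : Set X)) :
    ∀ e ∈ E, σ g * e * (σ g)⁻¹ ∈ E := by
  intro e he
  obtain ⟨y, hy, rfl⟩ := (hs.img e).mp he
  have h1 : g * y * g⁻¹ ∈ Y := (mem_normalizer_iff.mp hg y).mp hy
  exact (hs.img _).mpr ⟨g * y * g⁻¹, h1, by rw [map_mul, map_mul, map_inv]⟩

theorem SzSetup.hsyl (hs : SzSetup Y A σ E) (d : Data 2 Y A) : HSyl Y A := by
  intro g hg1 _ y hy
  apply hs.mem_sup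
  rw [map_mul, map_mul, map_inv]
  have hnorm : ∀ e ∈ E, σ g * e * (σ g)⁻¹ ∈ E := by
    by_contra hcon
    obtain ⟨y0, hy0, hy0A⟩ : ∃ y0 ∈ Y, y0 ∉ A := SetLike.not_le_iff_exists.mp d.not_le
    have he0E : σ y0 ∈ E := (hs.img _).mpr ⟨y0, hy0, rfl⟩
    have he01 : σ y0 ≠ 1 := fun h => hy0A ((hs.ker _).mp h)
    have he0sq : σ y0 * σ y0 = 1 := hs.sq_one d he0E
    have hodd := hs.odd (σ g) hcon (σ y0) he0E he01 (σ y0) he0E he01
    obtain ⟨s', hs'⟩ : ∃ s', s' = σ g * σ y0 * (σ g)⁻¹ := ⟨_, rfl⟩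
    rw [← hs'] at hodd
    have hs'sq : s' * s' = 1 := by
      calc s' * s' = σ g * (σ y0 * σ y0) * (σ g)⁻¹ := by rw [hs']; group
        _ = 1 := by rw [he0sq]; group
    have hs'inv : s'⁻¹ = s' := inv_eq_of_mul_eq_one_right hs'sq
    have hs'norm : ∀ e ∈ E, s' * e * s'⁻¹ ∈ E := by
      have : s' = σ (g * y0 * g⁻¹) := by rw [hs', map_mul, map_mul, map_inv]
      rw [this]
      exact hs.normalizes (hg1 y0 hy0)
    have h2 : (σ y0 * s') * (σ y0 * s') ∈ E := by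
      have : (σ y0 * s') * (σ y0 * s') = σ y0 * (s' * σ y0 * s'⁻¹) := by
        rw [hs'inv]; group
      rw [this]
      exact E.mul_mem he0E (hs'norm _ he0E)
    have h4 : (σ y0 * s') ^ 4 = 1 := by
      have := hs.sq_one d h2
      calc (σ y0 * s') ^ 4 = ((σ y0 * s') * (σ y0 * s')) * ((σ y0 * s') * (σ y0 * s')) := by
            rw [show (4 : ℕ) = 2 + 2 from rfl, pow_add, pow_two]
        _ = 1 := this
    have h1 : σ y0 * s' = 1 :=
      orderOf_eq_one_iff.mp (eq_one_of_odd_of_dvd_four hodd (orderOf_dvd_of_pow_eq_one h4))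
    have hs'e : s' = σ y0 := by
      have : s' = (σ y0)⁻¹ := eq_inv_of_mul_eq_one_right h1
      rw [this]
      exact inv_eq_of_mul_eq_one_right he0sq
    exact hcon (hs.ti (σ g) ⟨σ y0, he0E, he01, by rw [← hs', hs'e]; exact he0E⟩)
  exact hnorm _ ((hs.img _).mpr ⟨y, hy, rfl⟩)

theorem SzSetup.key (hs : SzSetup Y A σ E) (d : Data 2 Y A) {g0 : X}
    (hg0n : g0 ∉ normalizer (Y : Set X)) (hg0 : Y ⊔ Yc Y g0 = ⊤) {y : X} (hy : y ∈ Y)
    (hyA : y ∉ A) {v : V Y A} (hv : rhoX Y A y v = v) : v ∈ VS Y A 1 := by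
  obtain ⟨v1, hv1, v2, hv2, rfl⟩ := d.exists_decomp hg0 v
  have hy1 : rhoX Y A y v1 = v1 := d.rho_fix (by rw [Yc_one]; exact hy) hv1
  have hy2 : rhoX Y A y v2 = v2 := by
    rw [map_mul, hy1] at hv
    exact mul_left_cancel hv
  have hsY : g0 * y * g0⁻¹ ∈ Yc Y g0 := conj_mem_Yc g0 hy
  have hs2 : rhoX Y A (g0 * y * g0⁻¹) v2 = v2 := d.rho_fix hsY hv2
  have hnn : ¬ ∀ e ∈ E, σ g0 * e * (σ g0)⁻¹ ∈ E := fun h => hg0n (hs.mem_normalizer d h)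
  have heE : σ y ∈ E := (hs.img _).mpr ⟨y, hy, rfl⟩
  have he1 : σ y ≠ 1 := fun h => hyA ((hs.ker _).mp h)
  have hesq : σ y * σ y = 1 := hs.sq_one d heE
  obtain ⟨k, hk⟩ := hs.odd (σ g0) hnn (σ y) heE he1 (σ y) heE he1
  obtain ⟨n, hn⟩ : ∃ n, n = (y * (g0 * y * g0⁻¹)) ^ k := ⟨_, rfl⟩
  have hn2 : rhoX Y A n v2 = v2 := by
    have : n ∈ fixSub v2 := by
      rw [hn]
      exact pow_mem (mul_mem (mem_fixSub.mpr hy2) (mem_fixSub.mpr hs2)) k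
    exact this
  have hfsq : (σ g0 * σ y * (σ g0)⁻¹) * (σ g0 * σ y * (σ g0)⁻¹) = 1 := by
    calc (σ g0 * σ y * (σ g0)⁻¹) * (σ g0 * σ y * (σ g0)⁻¹)
        = σ g0 * (σ y * σ y) * (σ g0)⁻¹ := by group
      _ = 1 := by rw [hesq]; group
  have hconj : σ n * σ y * (σ n)⁻¹ = σ g0 * σ y * (σ g0)⁻¹ := by
    have hσn : σ n = (σ y * (σ g0 * σ y * (σ g0)⁻¹)) ^ k := by
      rw [hn, map_pow, map_mul, map_mul, map_mul, map_inv]
    rw [hσn]
    apply dih_conj hesq hfsq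
    rw [← hk]
    exact pow_orderOf_eq_one _
  have hb : g0⁻¹ * n ∈ normalizer (Y : Set X) := by
    apply hs.mem_normalizer d
    apply hs.ti
    refine ⟨σ y, heE, he1, ?_⟩
    have : σ (g0⁻¹ * n) * σ y * (σ (g0⁻¹ * n))⁻¹ = σ y := by
      rw [map_mul, map_inv]
      calc (σ g0)⁻¹ * σ n * σ y * ((σ g0)⁻¹ * σ n)⁻¹
          = (σ g0)⁻¹ * (σ n * σ y * (σ n)⁻¹) * σ g0 := by group
        _ = σ y := by rw [hconj]; group
    rw [this]
    exact heE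
  have hb' : n⁻¹ * g0 ∈ normalizer (Y : Set X) := by
    have := inv_mem hb
    rwa [mul_inv_rev, inv_inv] at this
  have hVS : VS Y A (n⁻¹ * g0) = VS Y A 1 :=
    VS_congr (by rw [Yc_eq_of_mem_normalizer hb', Yc_one])
  have h3 : rhoX Y A n⁻¹ v2 ∈ VS Y A 1 := by
    rw [← hVS]
    exact rhoX_mem_VS n⁻¹ hv2
  have h4 : rhoX Y A n⁻¹ v2 = v2 := by
    have : n⁻¹ ∈ fixSub v2 := inv_mem (mem_fixSub.mpr hn2)
    exact this
  rw [h4] at h3
  have : v2 = 1 := d.VS_inf hg0 h3 hv2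
  rw [this, mul_one]
  exact hv1

theorem SzSetup.key' (hs : SzSetup Y A σ E) (d : Data 2 Y A) {g0 : X}
    (hg0n : g0 ∉ normalizer (Y : Set X)) (hg0 : Y ⊔ Yc Y g0 = ⊤) {l y : X} (hy : y ∈ Yc Y l)
    (hyA : y ∉ A) {v : V Y A} (hv : rhoX Y A y v = v) : v ∈ VS Y A l := by
  obtain ⟨y1, hy1, rfl⟩ := mem_Yc.mp hy
  have hy1A : y1 ∉ A := fun h => hyA (hAn.conj_mem y1 h l)
  have h1 : rhoX Y A y1 (rhoX Y A l⁻¹ v) = rhoX Y A l⁻¹ v := by
    rw [← rhoX_mul_apply]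
    have e : y1 * l⁻¹ = l⁻¹ * (l * y1 * l⁻¹) := by group
    rw [e, rhoX_mul_apply, hv]
  have h2 := hs.key d hg0n hg0 hy1 hy1A h1
  have := rhoX_mem_VS l h2
  rwa [rhoX_apply_inv, mul_one] at this

omit [Finite X] in
/-- lifting the "real" fact to `X` -/
theorem SzSetup.exists_lift (hs : SzSetup Y A σ E) (d : Data 2 Y A) {h' : X} (hη1 : σ h' ≠ 1)
    (hηodd : Odd (orderOf (σ h'))) :
    ∃ g yt y' : X, yt ∈ Y ∧ y' = g * yt * g⁻¹ ∧ y' ∉ A ∧ y' * y' = 1 ∧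
      (∃ j : ℤ, σ y' * σ h' * (σ y')⁻¹ = σ h' ^ j) ∧ σ y' * σ h' ≠ σ h' * σ y' := by
  obtain ⟨t, htE, ht1, γ, hτz, hτc⟩ := hs.real (σ h') hη1 hηodd
  obtain ⟨yt, hyt, rfl⟩ := (hs.img t).mp htE
  obtain ⟨g, rfl⟩ := hs.surj γ
  have hytA : yt ∉ A := fun hc => ht1 ((hs.ker _).mpr hc)
  have hστ : σ (g * yt * g⁻¹) = σ g * σ yt * (σ g)⁻¹ := by rw [map_mul, map_mul, map_inv]
  refine ⟨g, yt, g * yt * g⁻¹, hyt, rfl, ?_, ?_, ?_, ?_⟩
  · intro hc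
    apply hytA
    have := hAn.conj_mem _ hc g⁻¹
    have e : g⁻¹ * (g * yt * g⁻¹) * g⁻¹⁻¹ = yt := by group
    rwa [e] at this
  · have := d.exp yt hyt
    calc (g * yt * g⁻¹) * (g * yt * g⁻¹) = g * yt ^ 2 * g⁻¹ := by rw [pow_two]; group
      _ = 1 := by rw [this]; group
  · rw [hστ]
    obtain ⟨j, hj⟩ := Subgroup.mem_zpowers_iff.mp hτz
    exact ⟨j, hj.symm⟩
  · rw [hστ]
    exact hτc

theorem case_abs (hs : SzSetup Y A σ E) (d : Data 2 Y A) : Concl 2 Y A := by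
  haveI : Finite S := Finite.of_surjective σ hs.surj
  have hS : HSyl Y A := hs.hsyl d
  obtain ⟨g0, hg0n⟩ := d.exists_not_mem
  have hg0 : Y ⊔ Yc Y g0 = ⊤ := d.sup_eq_top hS hg0n
  intro h hnp
  apply concl_of_fpf
  intro v hv
  by_contra hv1
  have hord : orderOf (σ h) ≠ 0 := (orderOf_pos (σ h)).ne'
  obtain ⟨a, b, hb, hab⟩ := Nat.exists_eq_two_pow_mul_odd hord
  obtain ⟨h', hh'⟩ : ∃ h', h' = h ^ (2 ^ a) := ⟨_, rfl⟩
  have hη1 : σ h' ≠ 1 := by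
    intro hc
    rw [hh'] at hc
    exact hnp (d.isPElt_of_pow_mem ((hs.ker _).mp hc))
  have hηodd : Odd (orderOf (σ h')) := by
    apply Odd.of_dvd_nat hb
    apply orderOf_dvd_of_pow_eq_one
    rw [hh', map_pow, ← pow_mul, ← hab, pow_orderOf_eq_one]
  have hv' : rhoX Y A h' v = v := by
    have : h' ∈ fixSub v := by
      rw [hh']
      exact pow_mem (mem_fixSub.mpr hv) _
    exact this
  obtain ⟨g, yt, y', hyt, hy'def, hy'A, hy'sq, ⟨j, hj⟩, hnc⟩ := hs.exists_lift d hη1 hηodd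
  have hy'Y : y' ∈ Yc Y g := by
    rw [hy'def]
    exact conj_mem_Yc g hyt
  have hy'inv : y'⁻¹ = y' := inv_eq_of_mul_eq_one_right hy'sq
  have hmod : (h' ^ j)⁻¹ * (y' * h' * y'⁻¹) ∈ A := by
    rw [← hs.ker, map_mul, map_inv, map_zpow, map_mul, map_mul, map_inv, hj, inv_mul_cancel]
  have hpres : ∀ w : V Y A, rhoX Y A h' w = w → rhoX Y A h' (rhoX Y A y' w) = rhoX Y A y' w := by
    intro w hw
    rw [← rhoX_mul_apply]
    have e : h' * y' = y' * (y' * h' * y'⁻¹) := by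
      calc h' * y' = (y' * y') * h' * y' := by rw [hy'sq, one_mul]
        _ = y' * (y' * h' * y') := by group
        _ = y' * (y' * h' * y'⁻¹) := by rw [hy'inv]
    rw [e, rhoX_mul_apply, ← d.rhoX_congr hmod w]
    have : h' ^ j ∈ fixSub w := zpow_mem (mem_fixSub.mpr hw) j
    rw [mem_fixSub.mp this]
  have hyy : ∀ w : V Y A, rhoX Y A y' (rhoX Y A y' w) = w := by
    intro w
    rw [← rhoX_mul_apply, hy'sq, map_one]
    rfl
  obtain ⟨e, he1, hey, heh⟩ :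
      ∃ e : V Y A, e ≠ 1 ∧ rhoX Y A y' e = e ∧ rhoX Y A h' e = e := by
    by_cases hu : v * rhoX Y A y' v = 1
    · refine ⟨v, hv1, ?_, hv'⟩
      have h1 : rhoX Y A y' v = v⁻¹ := (inv_eq_of_mul_eq_one_right hu).symm
      have h2 : v⁻¹ = v := by
        have := d.V_exp v
        rw [pow_two] at this
        exact inv_eq_of_mul_eq_one_right this
      rw [h1, h2]
    · refine ⟨v * rhoX Y A y' v, hu, ?_, ?_⟩
      · rw [map_mul, hyy, d.V_comm]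
      · rw [map_mul, hv', hpres v hv']
  have heg : e ∈ VS Y A g := hs.key' d hg0n hg0 hy'Y hy'A hey
  have hehg : e ∈ VS Y A (h' * g) := by
    have := rhoX_mem_VS h' heg
    rwa [heh] at this
  by_cases hb' : g⁻¹ * (h' * g) ∈ normalizer (Y : Set X)
  · -- `h'` normalizes `Yc Y g`
    have hr : h' * y' * h'⁻¹ ∈ Yc Y g := by
      have h1 : (g⁻¹ * (h' * g)) * yt * (g⁻¹ * (h' * g))⁻¹ ∈ Y :=
        (mem_normalizer_iff.mp hb' yt).mp hyt
      have e : h' * y' * h'⁻¹ = g * ((g⁻¹ * (h' * g)) * yt * (g⁻¹ * (h' * g))⁻¹) * g⁻¹ := by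
        rw [hy'def]; group
      rw [e]
      exact conj_mem_Yc g h1
    have hcomm : (h' * y' * h'⁻¹) * y' = y' * (h' * y' * h'⁻¹) := d.Yc_comm g _ hr _ hy'Y
    have hrsq : (h' * y' * h'⁻¹) * (h' * y' * h'⁻¹) = 1 := by
      calc (h' * y' * h'⁻¹) * (h' * y' * h'⁻¹) = h' * (y' * y') * h'⁻¹ := by group
        _ = 1 := by rw [hy'sq]; group
    have hrinv : (h' * y' * h'⁻¹)⁻¹ = h' * y' * h'⁻¹ := inv_eq_of_mul_eq_one_right hrsq
    -- `w = y' h' y'⁻¹ h'⁻¹` squares to one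
    have hwsq : (y' * h' * y'⁻¹ * h'⁻¹) * (y' * h' * y'⁻¹ * h'⁻¹) = 1 := by
      have e : y' * h' * y'⁻¹ * h'⁻¹ = y' * (h' * y' * h'⁻¹) := by
        calc y' * h' * y'⁻¹ * h'⁻¹ = y' * (h' * y' * h'⁻¹)⁻¹ := by group
          _ = y' * (h' * y' * h'⁻¹) := by rw [hrinv]
      rw [e]
      calc y' * (h' * y' * h'⁻¹) * (y' * (h' * y' * h'⁻¹))
          = y' * ((h' * y' * h'⁻¹) * y') * (h' * y' * h'⁻¹) := by group
        _ = y' * (y' * (h' * y' * h'⁻¹)) * (h' * y' * h'⁻¹) := by rw [hcomm]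
        _ = (y' * y') * ((h' * y' * h'⁻¹) * (h' * y' * h'⁻¹)) := by group
        _ = 1 := by rw [hy'sq, hrsq, one_mul]
    have hκ : σ (y' * h' * y'⁻¹ * h'⁻¹) = σ h' ^ (j - 1) := by
      rw [map_mul, map_mul, map_mul, map_inv, map_inv, hj, zpow_sub_one]
    have hκsq : σ (y' * h' * y'⁻¹ * h'⁻¹) ^ 4 = 1 := by
      rw [← map_pow]
      have : (y' * h' * y'⁻¹ * h'⁻¹) ^ 4 = 1 := by
        calc (y' * h' * y'⁻¹ * h'⁻¹) ^ 4
            = ((y' * h' * y'⁻¹ * h'⁻¹) * (y' * h' * y'⁻¹ * h'⁻¹)) *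
              ((y' * h' * y'⁻¹ * h'⁻¹) * (y' * h' * y'⁻¹ * h'⁻¹)) := by
              rw [show (4 : ℕ) = 2 + 2 from rfl, pow_add, pow_two]
          _ = 1 := by rw [hwsq, one_mul]
      rw [this, map_one]
    have hκodd : Odd (orderOf (σ (y' * h' * y'⁻¹ * h'⁻¹))) := by
      apply Odd.of_dvd_nat hηodd
      apply orderOf_dvd_of_mem_zpowers
      rw [hκ]
      exact zpow_mem (Subgroup.mem_zpowers _) _
    have hκ1 : σ (y' * h' * y'⁻¹ * h'⁻¹) = 1 :=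
      orderOf_eq_one_iff.mp (eq_one_of_odd_of_dvd_four hκodd (orderOf_dvd_of_pow_eq_one hκsq))
    apply hnc
    rw [map_mul, map_mul, map_mul, map_inv, map_inv] at hκ1
    have : σ y' * σ h' = (σ y' * σ h' * (σ y')⁻¹ * (σ h')⁻¹) * (σ h' * σ y') := by group
    rw [this, hκ1, one_mul]
  · exact he1 (d.VS_inf' hS hb' heg hehg)

end Abs

theorem case_sz {X : Type u} [Group X] [Finite X] {Y A : Subgroup X} [hAn : A.Normal]
    (d : Data 2 Y A) {F : Type} [Field F] [Fintype F] {m : ℕ} (hm : 1 ≤ m)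
    (hF : Fintype.card F = 2 ^ (2 * m + 1))
    (hcard : Nat.card ↥(Y.map (QuotientGroup.mk' A)) = 2 ^ (2 * m + 1))
    (φ : X ⧸ A ≃* ↥(Cfsg.Lie.Sz F (2 ^ (m + 1)))) : Concl 2 Y A := by
  obtain ⟨E, hE⟩ : ∃ E : Subgroup ↥(Cfsg.Lie.Sz F (2 ^ (m + 1))),
      E = (Y.map (QuotientGroup.mk' A)).map φ.toMonoidHom := ⟨_, rfl⟩
  have himg : ∀ e, e ∈ E ↔ ∃ y ∈ Y, (φ.toMonoidHom.comp (QuotientGroup.mk' A)) y = e := by
    intro e
    rw [hE, Subgroup.mem_map]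
    constructor
    · rintro ⟨q, hq, rfl⟩
      obtain ⟨y, hy, rfl⟩ := Subgroup.mem_map.mp hq
      exact ⟨y, hy, rfl⟩
    · rintro ⟨y, hy, rfl⟩
      exact ⟨QuotientGroup.mk' A y, Subgroup.mem_map_of_mem _ hy, rfl⟩
  have hEexp : ∀ e ∈ E, e * e = 1 := by
    intro e he
    obtain ⟨y, hy, rfl⟩ := (himg e).mp he
    rw [← map_mul, ← pow_two, d.exp y hy, map_one]
  have hEcard : Nat.card ↥E = 2 ^ (2 * m + 1) := by
    rw [hE, ← hcard]
    exact Nat.card_congr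
      ((Subgroup.equivMapOfInjective _ φ.toMonoidHom φ.injective).symm.toEquiv)
  obtain ⟨hti, hodd, hreal⟩ := Cfsg.Agent.Lib.Helper45.FrakL.szFacts hm hF E hEexp hEcard
  refine case_abs (σ := φ.toMonoidHom.comp (QuotientGroup.mk' A)) (E := E)
    ⟨?_, ?_, himg, hti, hodd, hreal⟩ d
  · exact φ.surjective.comp (QuotientGroup.mk'_surjective A)
  · intro x
    show φ (QuotientGroup.mk' A x) = 1 ↔ x ∈ A
    rw [MulEquiv.map_eq_one_iff, QuotientGroup.mk'_apply, QuotientGroup.eq_one_iff]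

end Cfsg.Agent.Lib.Helper11.FrakL
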