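import Mathlib
import Cfsg.Agent.Lib.Helper48.FrakL.DefsN
import Cfsg.Agent.Lib.Helper11.FrakL.CaseSz

set_option autoImplicit false

/-!
S2861, Suzuki case: `X / A ≅ Sz(q)` and the image of `Y` has order `q`.
-/

namespace Cfsg.Agent.Lib.Helper11.FrakL

open Subgroup
open Cfsg.Agent.Lib.Helper48.FrakL

universe u

/-- abstract form of the Suzuki case of S2861 -/
theorem caseN_abs {X : Type*} [Group X] [Finite X] {Y A : Subgroup X} [hAn : A.Normal]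
    {S : Type*} [Group S] {σ : X →* S} {E : Subgroup S}
    (hs : SzSetup Y A σ E) (d : Data 2 Y A)
    (hV : ∀ V : Subgroup S, V ≠ ⊥ → (∀ v ∈ V, v * v = 1) →
      (∀ n : S, (∀ e ∈ E, n * e * n⁻¹ ∈ E) → ∀ v ∈ V, n * v * n⁻¹ ∈ V) → V = E) :
    ConclN 2 Y A := by
  intro W hAW hWN hinv hexp _ hnot
  have hWb : W.map σ = E := by
    apply hV
    · obtain ⟨w, hw, hwA⟩ := SetLike.not_le_iff_exists.mp hnot
      intro hbot
      have h1 : σ w ∈ W.map σ := Subgroup.mem_map_of_mem σ hw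
      rw [hbot, Subgroup.mem_bot] at h1
      exact hwA ((hs.ker w).mp h1)
    · rintro _ ⟨w, hw, rfl⟩
      rw [← map_mul, ← pow_two]
      exact (hs.ker _).mpr (hexp w hw)
    · rintro n hn _ ⟨w, hw, rfl⟩
      obtain ⟨l, rfl⟩ := hs.surj n
      have hl : l ∈ normalizer (Y : Set X) := hs.mem_normalizer d hn
      exact ⟨l * w * l⁻¹, hinv l hl w hw, by rw [map_mul, map_mul, map_inv]⟩
  apply le_antisymm
  · intro w hw
    apply hs.mem_sup
    rw [← hWb]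
    exact Subgroup.mem_map_of_mem σ hw
  · apply sup_le _ hAW
    intro y hy
    have h1 : σ y ∈ W.map σ := by
      rw [hWb]
      exact (hs.img _).mpr ⟨y, hy, rfl⟩
    obtain ⟨w, hw, hwy⟩ := Subgroup.mem_map.mp h1
    have hA : w⁻¹ * y ∈ A := by
      rw [← hs.ker, map_mul, map_inv, hwy, inv_mul_cancel]
    have : y = w * (w⁻¹ * y) := by group
    rw [this]
    exact W.mul_mem hw (hAW hA)

/-- the Suzuki set-up attached to an isomorphism `X / A ≃ Sz(q)` -/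
theorem szSetup_of_equiv {X : Type u} [Group X] {Y A : Subgroup X} [hAn : A.Normal]
    (d : Data 2 Y A) {F : Type} [Field F] [Fintype F] {m : ℕ} (hm : 1 ≤ m)
    (hF : Fintype.card F = 2 ^ (2 * m + 1))
    (hcard : Nat.card ↥(Y.map (QuotientGroup.mk' A)) = 2 ^ (2 * m + 1))
    (φ : X ⧸ A ≃* ↥(Cfsg.Lie.Sz F (2 ^ (m + 1)))) :
    ∃ E : Subgroup ↥(Cfsg.Lie.Sz F (2 ^ (m + 1))),
      SzSetup Y A (φ.toMonoidHom.comp (QuotientGroup.mk' A)) E ∧ (∀ e ∈ E, e * e = 1) ∧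
        Nat.card ↥E = 2 ^ (2 * m + 1) := by
  obtain ⟨E, hE⟩ : ∃ E : Subgroup ↥(Cfsg.Lie.Sz F (2 ^ (m + 1))),
      E = (Y.map (QuotientGroup.mk' A)).map φ.toMonoidHom := ⟨_, rfl⟩
  have himg : ∀ e, e ∈ E ↔ ∃ y ∈ Y, (φ.toMonoidHom.comp (QuotientGroup.mk' A)) y = e := by
    intro e
    rw [hE, Subgroup.mem_map]
    constructor
    · rintro ⟨q, hq, rfl⟩
      obtain ⟨y, hy, rfl⟩ := Subgroup.mem_map.mp hq
      exact ⟨y, hy, rfl⟩
    · rintro ⟨y, hy, rfl⟩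
      exact ⟨QuotientGroup.mk' A y, Subgroup.mem_map_of_mem _ hy, rfl⟩
  have hEexp : ∀ e ∈ E, e * e = 1 := by
    intro e he
    obtain ⟨y, hy, rfl⟩ := (himg e).mp he
    rw [← map_mul, ← pow_two, d.exp y hy, map_one]
  have hEcard : Nat.card ↥E = 2 ^ (2 * m + 1) := by
    rw [hE, ← hcard]
    exact Nat.card_congr
      ((Subgroup.equivMapOfInjective _ φ.toMonoidHom φ.injective).symm.toEquiv)
  obtain ⟨hti, hodd, hreal⟩ := Cfsg.Agent.Lib.Helper45.FrakL.szFacts hm hF E hEexp hEcard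
  refine ⟨E, ⟨?_, ?_, himg, hti, hodd, hreal⟩, hEexp, hEcard⟩
  · exact φ.surjective.comp (QuotientGroup.mk'_surjective A)
  · intro x
    show φ (QuotientGroup.mk' A x) = 1 ↔ x ∈ A
    rw [MulEquiv.map_eq_one_iff, QuotientGroup.mk'_apply, QuotientGroup.eq_one_iff]

theorem caseN_sz {X : Type u} [Group X] [Finite X] {Y A : Subgroup X} [hAn : A.Normal]
    (d : Data 2 Y A) {F : Type} [Field F] [Fintype F] {m : ℕ} (hm : 1 ≤ m)
    (hF : Fintype.card F = 2 ^ (2 * m + 1))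
    (hcard : Nat.card ↥(Y.map (QuotientGroup.mk' A)) = 2 ^ (2 * m + 1))
    (φ : X ⧸ A ≃* ↥(Cfsg.Lie.Sz F (2 ^ (m + 1)))) (hN : SzNormal) : ConclN 2 Y A := by
  obtain ⟨E, hs, hEexp, hEcard⟩ := szSetup_of_equiv d hm hF hcard φ
  exact caseN_abs hs d (fun V hV1 hV2 hV3 => hN hm hF E hEexp hEcard V hV1 hV2 hV3)

end Cfsg.Agent.Lib.Helper11.FrakL
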